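import Cfsg.Agent.Lib.Chev.Invol.Sound
import Cfsg.Agent.Lib.Chev.CheckG2

/-!
Generated certificates for the classes of involutions of the Chevalley group of type G2 in characteristic two.
-/
set_option autoImplicit false
set_option maxRecDepth 100000

namespace Cfsg.Agent.Chev.Invol.G2

open Cfsg.Lie

/-- Functionals giving multiples of the coefficients of a root. -/
def lam : List (List ℤ) := [[2, 3], [1, 2]]

/-- The roots of node 0. -/
def roots0 : List ℕ := []

/-- The products of node 0. -/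
def reps0 : List (List ℕ) := [[]]

/-- Cases of node 0. -/
def cases0_0 : List JCase :=
  [⟨[], [], 0, .none⟩]

/-- Node 0. -/
def node0 : Node :=
  ⟨[], roots0, 0, reps0, [], cases0_0,
    []⟩

/-- The roots of node 1. -/
def roots1 : List ℕ := [5, 6]

/-- The products of node 1. -/
def reps1 : List (List ℕ) := [[], [6]]

/-- Cases of node 1. -/
def cases1_0 : List JCase :=
  [⟨[], [], 0, .none⟩,
   ⟨[1], [6], 64, .good ⟨[([], 1)], [6], [1], [], 0, [2, 3], [], 0, [([], 1)]⟩⟩]

/-- Node 1. -/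
def node1 : Node :=
  ⟨[1], roots1, 96, reps1, [1], cases1_0,
    [(roots0, reps0)]⟩

/-- The roots of node 2. -/
def roots2 : List ℕ := [4, 7]

/-- The products of node 2. -/
def reps2 : List (List ℕ) := [[], [7]]

/-- Cases of node 2. -/
def cases2_0 : List JCase :=
  [⟨[], [], 0, .none⟩,
   ⟨[0], [7], 128, .good ⟨[([], 0)], [7], [0], [], 0, [1, 2], [], 0, [([], 1)]⟩⟩]

/-- Node 2. -/
def node2 : Node :=
  ⟨[0], roots2, 144, reps2, [0], cases2_0,
    [(roots0, reps0)]⟩

/-- The roots of node 3. -/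
def roots3 : List ℕ := [0, 1, 2, 3, 4, 5, 6, 7, 8, 9, 10, 11]

/-- The products of node 3. -/
def reps3 : List (List ℕ) := [[], [9], [6, 9], [11]]

/-- Cases of node 3. -/
def cases3_0 : List JCase :=
  [⟨[], [], 0, .none⟩,
   ⟨[0], [7], 128, .good ⟨[([], 0)], [7], [0], [(6, 10), (8, 9), (11, 11)], 3904, [1, 2], [0, 1], 0, [([], 1), ([], 2)]⟩⟩,
   ⟨[1], [6], 64, .good ⟨[([], 1)], [6], [1], [(7, 8), (9, 9), (10, 11)], 3968, [2, 3], [1, 0], 1, [([], 3), ([0, 1], 2)]⟩⟩,
   ⟨[0, 1], [6, 7, 8, 9, 10, 11], 4032, .good ⟨[([1, 0], 1), ([], 0)], [11, 7], [1, 0, 1, 0, 1, 0], [], 0, [0, 0], [0, 1], 2, [([], 2)]⟩⟩]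

/-- Node 3. -/
def node3 : Node :=
  ⟨[0, 1], roots3, 4095, reps3, [0, 1, 0, 1, 0, 1], cases3_0,
    [(roots1, reps1), (roots2, reps2), (roots0, reps0)]⟩

/-- The final products. -/
def final : List (List ℕ) := [[], [11], [9]]

/-- The moves to the final products. -/
def merges : List (List Move × ℕ) :=
  [([], 0),
   ([.refl 0, .refl 0], 2),
   ([.refl 0, .conj [7, 6], .norm, .refl 0], 2),
   ([.refl 1, .refl 0, .refl 0, .refl 1], 1)]

end Cfsg.Agent.Chev.Invol.G2
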