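import Cfsg.Agent.Lib.Chev.Invol.Sound
import Cfsg.Agent.Lib.Chev.CheckG2
import Cfsg.Agent.Lib.Chev.Invol.G2.Data

/-!
Generated certificates for the classes of involutions of the Chevalley group of type G2 in characteristic two.
-/
set_option autoImplicit false
set_option maxRecDepth 100000

namespace Cfsg.Agent.Chev.Invol.G2

open Cfsg.Lie Cfsg.Agent.Chev.G2

theorem cases0_0_ok : allL (caseOK cert node0) cases0_0 = true := by decide +kernel

theorem node0_ok : nodeOK cert lam node0 = true := by decide +kernel

theorem cases1_0_ok : allL (caseOK cert node1) cases1_0 = true := by decide +kernel

theorem node1_ok : nodeOK cert lam node1 = true := by decide +kernel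

theorem cases2_0_ok : allL (caseOK cert node2) cases2_0 = true := by decide +kernel

theorem node2_ok : nodeOK cert lam node2 = true := by decide +kernel

theorem cases3_0_ok : allL (caseOK cert node3) cases3_0 = true := by decide +kernel

theorem node3_ok : nodeOK cert lam node3 = true := by decide +kernel

theorem merges_ok : mergeOK cert node3.K node3.roots merges node3.reps final = true := by decide +kernel

theorem top_reps_lt : node3.reps.all (fun R => R.all fun r => decide (r < cert.nroots)) = true := by decide +kernel

variable {F : Type*} [Field F] [CharP F 2] [Fintype F]
  {tabs simps : List ℕ} (hf : BNSetup.Facts chevG2 tabs simps) (hn : BNSetup.NegTri chevG2)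
include hf hn

theorem classified0 : Classified chevG2 F roots0 reps0 :=
  node_classified (c := cert) (lam := lam) (nd := node0) valid hf hn node0_ok
    (fun jc h => allL_iff.1 cases0_0_ok jc h)
    (fun p h => by simp [node0] at h)

theorem classified1 : Classified chevG2 F roots1 reps1 :=
  node_classified (c := cert) (lam := lam) (nd := node1) valid hf hn node1_ok
    (fun jc h => allL_iff.1 cases1_0_ok jc h)
    (fun p h => by
      simp only [node1, List.mem_cons, List.not_mem_nil, or_false] at h
      subst h; exact classified0 hf hn)

theorem classified2 : Classified chevG2 F roots2 reps2 :=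
  node_classified (c := cert) (lam := lam) (nd := node2) valid hf hn node2_ok
    (fun jc h => allL_iff.1 cases2_0_ok jc h)
    (fun p h => by
      simp only [node2, List.mem_cons, List.not_mem_nil, or_false] at h
      subst h; exact classified0 hf hn)

theorem classified3 : Classified chevG2 F roots3 reps3 :=
  node_classified (c := cert) (lam := lam) (nd := node3) valid hf hn node3_ok
    (fun jc h => allL_iff.1 cases3_0_ok jc h)
    (fun p h => by
      simp only [node3, List.mem_cons, List.not_mem_nil, or_false] at h
      rcases h with rfl | rfl | rfl
      · exact classified1 hf hn
      · exact classified2 hf hn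
      · exact classified0 hf hn)

theorem classified_final : Classified chevG2 F roots3 final :=
  classified_merge (c := cert) (lam := lam) valid (K := node3.K) (roots := node3.roots) (reps := node3.reps)
    (levi_of_leviOK valid (by
      have h := node3_ok
      simp only [nodeOK, Bool.and_eq_true] at h
      exact h.1.1.1.1.1.1))
    (fun R hR r hr => by
      have h := top_reps_lt
      simp only [List.all_eq_true, decide_eq_true_eq] at h
      exact (valid.nroots_eq) ▸ h R hR r hr)
    merges_ok (classified3 hf hn)

end Cfsg.Agent.Chev.Invol.G2
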